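import Groth.Agent.H58.LenDVR.StalkMod
import Groth.Agent.H58.SkOpen.RkDVR
import Groth.Agent.H13.QuasiFlat

/-!
# Going down for the support of a module flat over a domain (helper58; for S1416)

`g : Z ⟶ Spec V` with `V` a domain, `F` coherent on `Z`, flat over `V` at `z` with `F_z ≠ 0`:
there is a generization `ξ` of `z` in the support of `F` lying over the generic point of `Spec V`.
-/

set_option autoImplicit false
set_option backward.isDefEq.respectTransparency.types false
set_option linter.unusedSectionVars false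
set_option linter.style.haveILetI false
universe u

open CategoryTheory CategoryTheory.Limits AlgebraicGeometry TopologicalSpace Opposite IsLocalRing
  Topology
open Groth.Agent.H15.StalkLoc Groth.Agent.H58.SkOpen Groth.Agent.H99.RkField
  Groth.Agent.H58.LenDVR

namespace Groth.Agent.H58.ValSupp

variable (V : Type u) [CommRing V] {Z : Scheme.{u}} (g : Z ⟶ Spec (CommRingCat.of V))

theorem rho_apply' (a : Z) (v : V) :
    rho V g a v = (g.stalkMap a).hom (toSt V g a v) := rfl

theorem stalkSpecializes_toSt' {a a' : Z} (h : a' ⤳ a) (v : V) :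
    ((Spec (CommRingCat.of V)).presheaf.stalkSpecializes (g.base.hom.map_specializes h)).hom
      (toSt V g a v) = toSt V g a' v := by
  have := StructureSheaf.toStalk_stalkSpecializes (R := V) (g.base.hom.map_specializes h)
  exact congr($(this).hom v)

theorem stalkSpecializes_rho' {a a' : Z} (h : a' ⤳ a) (v : V) :
    (Z.presheaf.stalkSpecializes h).hom (rho V g a v) = rho V g a' v := by
  rw [rho_apply', rho_apply']
  have h2 := (Scheme.Hom.stalkSpecializes_stalkMap_apply g a' a h (toSt V g a v)).symm
  refine h2.trans ?_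
  exact congrArg _ (stalkSpecializes_toSt' V g h v)

theorem isUnit_rho_of_notMem' (a : Z) (v : V) (hv : v ∉ (g a).asIdeal) :
    IsUnit (rho V g a v) := by
  rw [rho_apply']
  refine IsUnit.map _ ?_
  letI a1 : Algebra V ((Spec (CommRingCat.of V)).presheaf.stalk (g a)) :=
    StructureSheaf.stalkAlgebra V (g a)
  haveI l1 : IsLocalization.AtPrime ((Spec (CommRingCat.of V)).presheaf.stalk (g a))
      (g a).asIdeal := StructureSheaf.IsLocalization.to_stalk V (g a)
  exact IsLocalization.map_units ((Spec (CommRingCat.of V)).presheaf.stalk (g a))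
    (⟨v, hv⟩ : (g a).asIdeal.primeCompl)

/-- if `ρ_z(v)` is not in the prime of the generization `ξ` of `z` then `v ∉ g ξ`... (converse
form): `v ∈ (g ξ)` implies `ρ_z(v) ∈ genPrime`. -/
theorem notMem_asIdeal_of_notMem_genPrime {z ξ : Z} (h : ξ ⤳ z) (v : V)
    (hv : rho V g z v ∉ genPrime h) : v ∉ (g ξ).asIdeal := by
  intro hmem
  apply hv
  rw [mem_genPrime_iff, stalkSpecializes_rho' V g h]
  letI a1 : Algebra V ((Spec (CommRingCat.of V)).presheaf.stalk (g ξ)) :=
    StructureSheaf.stalkAlgebra V (g ξ)
  haveI l1 : IsLocalization.AtPrime ((Spec (CommRingCat.of V)).presheaf.stalk (g ξ))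
      (g ξ).asIdeal := StructureSheaf.IsLocalization.to_stalk V (g ξ)
  have h1 : toSt V g ξ v ∈ maximalIdeal ((Spec (CommRingCat.of V)).presheaf.stalk (g ξ)) :=
    (IsLocalization.AtPrime.to_map_mem_maximal_iff
      ((Spec (CommRingCat.of V)).presheaf.stalk (g ξ)) (g ξ).asIdeal v).mpr hmem
  rw [mem_maximalIdeal, mem_nonunits_iff] at h1
  intro hu
  have : IsLocalHom (g.stalkMap ξ).hom := inferInstance
  exact h1 (this.map_nonunit _ hu)

variable [IsDomain V] (F : Z.Modules)

theorem isSMulRegular_rho_mod' (a : Z) (hfl : FlatMod.IsFlatOverAt g F a) (v : V) (hv : v ≠ 0) :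
    IsSMulRegular (F.presheaf.stalk a) (rho V g a v) := by
  letI a1 : Algebra V ((Spec (CommRingCat.of V)).presheaf.stalk (g a)) :=
    StructureSheaf.stalkAlgebra V (g a)
  haveI l1 : IsLocalization.AtPrime ((Spec (CommRingCat.of V)).presheaf.stalk (g a))
      (g a).asIdeal := StructureSheaf.IsLocalization.to_stalk V (g a)
  haveI : Module.Flat V ((Spec (CommRingCat.of V)).presheaf.stalk (g a)) :=
    IsLocalization.flat _ (g a).asIdeal.primeCompl
  have hreg : IsSMulRegular V v := (isRegular_of_ne_zero hv).left.isSMulRegular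
  have h1 : IsSMulRegular ((Spec (CommRingCat.of V)).presheaf.stalk (g a))
      (toSt V g a v) := hreg.of_flat
  have h2 : IsRegular (toSt V g a v) :=
    (Commute.isRegular_iff (fun b => Commute.all _ b)).mpr h1.isLeftRegular
  letI : Module ((Spec (CommRingCat.of V)).presheaf.stalk (g a)) (F.presheaf.stalk a) :=
    FlatMod.moduleStalkOver g F a
  haveI : Module.Flat ((Spec (CommRingCat.of V)).presheaf.stalk (g a)) (F.presheaf.stalk a) := hfl
  have h3 : IsSMulRegular (F.presheaf.stalk a) (toSt V g a v) :=
    Module.Flat.isSMulRegular_of_isRegular h2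
  intro m₁ m₂ h
  exact h3 h

/-- **going down for supports of flat modules over a domain.** -/
theorem exists_generization_in_support (hF : Coh.IsCoh F) (z : Z)
    (hz : Nontrivial (F.presheaf.stalk z)) (hfl : FlatMod.IsFlatOverAt g F z) :
    ∃ ξ : Z, ξ ⤳ z ∧ Nontrivial (F.presheaf.stalk ξ) ∧ (g ξ).asIdeal = ⊥ := by
  haveI : F.IsQuasicoherent := hF.1
  haveI := Groth.Agent.H13.finite_stalk_of_isCoh F hF z
  -- the multiplicative set of images of nonzero elements of `V`
  let S : Submonoid (Z.presheaf.stalk z) := (nonZeroDivisors V).map (rho V g z)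
  have hdisj : Disjoint (Module.annihilator (Z.presheaf.stalk z) (F.presheaf.stalk z) :
      Set (Z.presheaf.stalk z)) (S : Set (Z.presheaf.stalk z)) := by
    rw [Set.disjoint_left]
    rintro _ hann ⟨v, hv, rfl⟩
    have hv0 : v ≠ 0 := nonZeroDivisors.ne_zero hv
    have hreg := isSMulRegular_rho_mod' V g F z hfl v hv0
    obtain ⟨m, hm⟩ := exists_ne (0 : F.presheaf.stalk z)
    apply hm
    apply hreg
    change rho V g z v • m = rho V g z v • (0 : F.presheaf.stalk z)
    rw [smul_zero]
    exact Module.mem_annihilator.mp hann m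
  obtain ⟨q, hqprime, hqann, hqS⟩ := Ideal.exists_le_prime_disjoint _ S hdisj
  haveI := hqprime
  obtain ⟨ξ, h, hgen⟩ := exists_genPrime_eq z q
  refine ⟨ξ, h, ?_, ?_⟩
  · rw [nontrivial_stalk_iff_mem_support F h, Module.mem_support_iff_of_finite]
    change _ ≤ genPrime h
    rw [hgen]
    exact hqann
  · rw [eq_bot_iff]
    intro v hv
    rw [Submodule.mem_bot]
    by_contra hv0
    have h1 : rho V g z v ∈ (S : Set (Z.presheaf.stalk z)) :=
      ⟨v, mem_nonZeroDivisors_of_ne_zero hv0, rfl⟩
    have h2 : rho V g z v ∉ genPrime h := by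
      rw [hgen]
      intro hmem
      exact Set.disjoint_left.mp hqS hmem h1
    exact notMem_asIdeal_of_notMem_genPrime V g h v h2 hv

end Groth.Agent.H58.ValSupp
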