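import Groth.Agent.H58.ValSupp.GoingDown
import Groth.Agent.H17.Val.ValStep
import Groth.Agent.H17.Val.ValSpec
import Groth.Agent.H17.Val.BCDim
import Groth.Agent.S4357
import Groth.Agent.H71.QCoh.FlatBaseChange
import Groth.Agent.H71.QCoh.SupportProper
import Groth.Agent.H99.FibModProp

/-!
# S1416: the dimension of the support in the fibres of a flat module is bounded by that in the
generic fibre (helper58)
-/

set_option autoImplicit false
set_option backward.isDefEq.respectTransparency.types false
set_option linter.unusedSectionVars false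
set_option linter.style.haveILetI false
universe u

open CategoryTheory CategoryTheory.Limits AlgebraicGeometry TopologicalSpace Opposite IsLocalRing
  Topology

namespace Groth.Agent.H58.ValSupp

theorem main1416 {X S : Scheme.{u}} (f : X ⟶ S) [LocallyOfFiniteType f] [IrreducibleSpace ↑S]
    (F : X.Modules) (hF : Coh.IsCoh F) (hfl : FlatMod.IsFlatOver f F) (r : WithBot ℕ∞)
    (h : topologicalKrullDim ↑(f ⁻¹' {genericPoint ↑S} ∩ CohB1.support F) ≤ r) (s : S) :
    topologicalKrullDim ↑(f ⁻¹' {s} ∩ CohB1.support F) ≤ r := by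
  haveI : F.IsQuasicoherent := hF.1
  haveI : SheafOfModules.IsFiniteType (R := X.ringCatSheaf) F := hF.2
  have hsp : genericPoint S ⤳ s := genericPoint_specializes s
  obtain ⟨A, _, _, _, φ, hφc, hφη⟩ :=
    Groth.Agent.H17.Val.exists_valuationRing_hom (genericPoint S) s hsp
  have hc : IsPullback (pullback.fst f φ) (pullback.snd f φ) f φ := IsPullback.of_hasPullback f φ
  set g' := pullback.fst f φ with hg'
  set f' := pullback.snd f φ with hf'
  have hC : IsClosed (CohB1.support F) := Groth.Agent.H71.QCoh.isClosed_support F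
  have hF' : Coh.IsCoh ((Scheme.Modules.pullback g').obj F) :=
    Groth.Agent.H99.FibModProp.isCoh_pullback g' F hF
  have hsupp : CohB1.support ((Scheme.Modules.pullback g').obj F) =
      g'.base ⁻¹' CohB1.support F := Groth.Agent.S4357.result g' F hF.2
  have hmem : ∀ z : ↥(pullback f φ), z ∈ g'.base ⁻¹' CohB1.support F ↔
      Nontrivial (((Scheme.Modules.pullback g').obj F).presheaf.stalk z) := by
    intro z
    rw [← hsupp]
    change ¬ Subsingleton _ ↔ _
    exact not_subsingleton_iff_nontrivial
  have hgen : ∀ z ∈ g'.base ⁻¹' CohB1.support F, f'.base z = closedPoint A →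
      ∃ ξ ∈ g'.base ⁻¹' CohB1.support F,
        f'.base ξ = genericPoint (Spec (CommRingCat.of A)) ∧ ξ ⤳ z := by
    intro z hz _
    have hflz : FlatMod.IsFlatOverAt f' ((Scheme.Modules.pullback g').obj F) z :=
      Groth.Agent.H71.QCoh.isFlatOverAt_baseChange hc F z (hfl (g' z))
    obtain ⟨ξ, hξz, hξnt, hξ⟩ := exists_generization_in_support A f'
      ((Scheme.Modules.pullback g').obj F) hF' z ((hmem z).mp hz) hflz
    refine ⟨ξ, (hmem ξ).mpr hξnt, ?_, hξz⟩
    rw [genericPoint_eq_bot_of_affine (CommRingCat.of A)]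
    exact PrimeSpectrum.ext hξ
  have key := Groth.Agent.H17.Val.dim_closed_inter_fibre_le_generic f'
    (g'.base ⁻¹' CohB1.support F) (hC.preimage g'.continuous)
    (genericPoint (Spec (CommRingCat.of A))) (closedPoint A) rfl hgen
  have e1 := Groth.Agent.H17.Val.dim_fibre_inter_closed_eq_of_isPullback f φ f' g' hc
    (closedPoint A) (CohB1.support F) hC
  have e2 := Groth.Agent.H17.Val.dim_fibre_inter_closed_eq_of_isPullback f φ f' g' hc
    (genericPoint (Spec (CommRingCat.of A))) (CohB1.support F) hC
  rw [hφc] at e1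
  rw [hφη] at e2
  rw [e1, e2] at key
  rw [Set.inter_comm] at h ⊢
  exact key.trans h

end Groth.Agent.H58.ValSupp
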